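import Mathlib
import Cfsg.Agent.Fischer480.Defs
import Cfsg.Agent.Fischer919.NormOne
import Cfsg.Agent.Fischer919.CentralQuot
import Cfsg.Agent.Fischer920.RackIso
import Cfsg.Agent.ClassicalGeometry.Reflection
set_option linter.all false

set_option autoImplicit false

/-!
# A Fischer group of type `R n` is the group generated by the reflections, modulo centres
-/

namespace Cfsg.Agent.Fischer919.OmegaR

open Cfsg Matrix
open Cfsg.Agent.ClassicalGeometry.Reflection
open Cfsg.Agent.Fischer3.Orth3Basic (Form cases3 mul_self_of_ne three)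
open Cfsg.Agent.Fischer919.NormOne
open Cfsg.Agent.SporadicStructure.FischerSpace
open LinearMap (BilinForm)

variable {n : ℕ}

local notation "rfl3" => Cfsg.Agent.Fischer3.Orth3Basic.rfn

/-- the quadratic form `v ↦ B v v` -/
abbrev QB (B : BilinForm (ZMod 3) (Fin n → ZMod 3)) : QuadraticForm (ZMod 3) (Fin n → ZMod 3) :=
  LinearMap.BilinMap.toQuadraticMap B

theorem QB_apply (B : BilinForm (ZMod 3) (Fin n → ZMod 3)) (v : Fin n → ZMod 3) :
    QB B v = B v v := rfl

section

variable {B : BilinForm (ZMod 3) (Fin n → ZMod 3)}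

theorem polar_QB (F : Form B) (v w : Fin n → ZMod 3) :
    QuadraticMap.polar (⇑(QB B)) v w = 2 * B v w := by
  show QB B (v + w) - QB B v - QB B w = _
  rw [QB_apply, QB_apply, QB_apply, F.norm_add]
  ring

theorem QB_ne {v : Fin n → ZMod 3} (hv : B v v = 1) : QB B v ≠ 0 := by
  rw [QB_apply, hv]; decide

/-- the reflection in a norm one vector -/
noncomputable def rr (B : BilinForm (ZMod 3) (Fin n → ZMod 3)) {v : Fin n → ZMod 3}
    (hv : B v v = 1) : isometryGroup (ZMod 3) (⇑(QB B)) :=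
  reflIso (QB B) v (QB_ne hv)

theorem rr_mulVec (F : Form B) {v : Fin n → ZMod 3} (hv : B v v = 1) (w : Fin n → ZMod 3) :
    (((rr B hv : isometryGroup (ZMod 3) (⇑(QB B))) : Matrix.GeneralLinearGroup (Fin n) (ZMod 3)) :
      Matrix (Fin n) (Fin n) (ZMod 3)) *ᵥ w = rfl3 B v w := by
  show Cfsg.reflectionMatrix (⇑(QB B)) v *ᵥ w = _
  rw [reflectionMatrix_mulVec, QB_apply, hv, polar_QB F, Cfsg.Agent.Fischer3.Orth3Basic.refl_def]
  have : (1 : ZMod 3)⁻¹ * (2 * B v w) = - B v w := by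
    have h : ∀ a : ZMod 3, 2 * a = - a := by decide
    rw [inv_one, one_mul]
    exact h _
  rw [this, neg_smul, sub_neg_eq_add]

theorem rr_congr {v w : Fin n → ZMod 3} (hv : B v v = 1) (hw : B w w = 1) (h : v = w) :
    rr B hv = rr B hw := by
  subst h
  rfl

theorem rr_neg (F : Form B) {v w : Fin n → ZMod 3} (hv : B v v = 1) (hw : B w w = 1)
    (h : v = -w) : rr B hv = rr B hw := by
  apply isometryGroup_ext
  intro x
  rw [rr_mulVec F, rr_mulVec F, h, Cfsg.Agent.Fischer3.Orth3Basic.refl_neg_left]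

theorem rr_eq (F : Form B) {v w : Fin n → ZMod 3} (hv : B v v = 1) (hw : B w w = 1)
    (h : v = w ∨ v = -w) : rr B hv = rr B hw := by
  rcases h with h | h
  · exact rr_congr hv hw h
  · exact rr_neg F hv hw h

theorem rr_injective (F : Form B) {v w : Fin n → ZMod 3} (hv : B v v = 1) (hw : B w w = 1)
    (h : rr B hv = rr B hw) : v = w ∨ v = -w := by
  have h1 := rr_mulVec F hv v
  rw [h, rr_mulVec F hw, Cfsg.Agent.Fischer3.Orth3Basic.refl_self hv,
    Cfsg.Agent.Fischer3.Orth3Basic.refl_def] at h1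
  -- `v + B w v • w = - v`
  have h2 : v = B w v • w := by
    have h3 := Cfsg.Agent.Fischer3.Orth3Basic.three_smul' v
    linear_combination (norm := module) h3 - h1
  rcases cases3 (B w v) with h3 | h3 | h3
  · rw [h3, zero_smul] at h2
    rw [h2] at hv
    simp at hv
  · left; rw [h2, h3, one_smul]
  · right; rw [h2, h3, neg_smul, one_smul]

theorem rr_conj (F : Form B) {v w : Fin n → ZMod 3} (hv : B v v = 1) (hw : B w w = 1)
    (hvw : B (rfl3 B v w) (rfl3 B v w) = 1) :
    rr B hv * rr B hw * (rr B hv)⁻¹ = rr B hvw := by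
  have h1 := rr_mulVec F hv w
  have h2 : QB B ((((rr B hv : isometryGroup (ZMod 3) (⇑(QB B))) :
      Matrix.GeneralLinearGroup (Fin n) (ZMod 3)) :
      Matrix (Fin n) (Fin n) (ZMod 3)) *ᵥ w) ≠ 0 := by
    rw [h1]
    exact QB_ne hvw
  have h3 : rr B hv * rr B hw * (rr B hv)⁻¹ = reflIso (QB B) _ h2 :=
    conj_reflIso (QB B) w (QB_ne hw) (rr B hv) h2
  rw [h3]
  apply isometryGroup_ext
  intro x
  show Cfsg.reflectionMatrix (⇑(QB B)) _ *ᵥ x = Cfsg.reflectionMatrix (⇑(QB B)) _ *ᵥ x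
  rw [h1]

/-- the set of reflections -/
def RR (B : BilinForm (ZMod 3) (Fin n → ZMod 3)) : Set (isometryGroup (ZMod 3) (⇑(QB B))) :=
  {g | ∃ (v : Fin n → ZMod 3) (hv : B v v = 1), rr B hv = g}

theorem conj_mem_RR (g x : isometryGroup (ZMod 3) (⇑(QB B))) (hx : x ∈ RR B) :
    g * x * g⁻¹ ∈ RR B := by
  obtain ⟨v, hv, rfl⟩ := hx
  have hg := (mem_isometryGroup_iff _ _).1 g.2
  have h1 : B (((g : Matrix.GeneralLinearGroup (Fin n) (ZMod 3)) :
      Matrix (Fin n) (Fin n) (ZMod 3)) *ᵥ v) (((g : Matrix.GeneralLinearGroup (Fin n) (ZMod 3)) :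
      Matrix (Fin n) (Fin n) (ZMod 3)) *ᵥ v) = 1 := by
    have := hg v
    rw [QB_apply, QB_apply, hv] at this
    exact this
  refine ⟨_, h1, ?_⟩
  exact (conj_reflIso (QB B) v (QB_ne hv) g (QB_ne h1)).symm

/-- the group generated by the reflections -/
def Gam (B : BilinForm (ZMod 3) (Fin n → ZMod 3)) :
    Subgroup (isometryGroup (ZMod 3) (⇑(QB B))) := Subgroup.closure (RR B)

theorem Gam_normal : (Gam B).Normal := by
  constructor
  intro x hx g
  induction hx using Subgroup.closure_induction with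
  | mem x hx => exact Subgroup.subset_closure (conj_mem_RR g x hx)
  | one => rw [mul_one, mul_inv_cancel]; exact Subgroup.one_mem _
  | mul x y _ _ hx hy =>
    have : g * (x * y) * g⁻¹ = (g * x * g⁻¹) * (g * y * g⁻¹) := by group
    rw [this]
    exact Subgroup.mul_mem _ hx hy
  | inv x _ hx =>
    have : g * x⁻¹ * g⁻¹ = (g * x * g⁻¹)⁻¹ := by group
    rw [this]
    exact Subgroup.inv_mem _ hx

/-- the reflections as elements of `Gam B` -/
def RG (B : BilinForm (ZMod 3) (Fin n → ZMod 3)) : Set ↥(Gam B) :=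
  {g | (g : isometryGroup (ZMod 3) (⇑(QB B))) ∈ RR B}

theorem closure_RG : Subgroup.closure (RG B) = ⊤ :=
  Subgroup.closure_closure_coe_preimage

theorem conj_mem_RG (g x : ↥(Gam B)) (hx : x ∈ RG B) : g * x * g⁻¹ ∈ RG B :=
  conj_mem_RR (g : isometryGroup (ZMod 3) (⇑(QB B))) (x : isometryGroup (ZMod 3) (⇑(QB B))) hx

end

variable {G : Type*} [Group G] {D : Set G}

/-- the image of the third point of a line -/
theorem map_conj {B : BilinForm (ZMod 3) (Fin n → ZMod 3)} (F : Form B) (h : FData D) (hn : 6 ≤ n)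
    {f : G → Fin n → ZMod 3} (h1 : ∀ x ∈ D, B (f x) (f x) = 1)
    (h2 : ∀ x ∈ D, ∀ y ∈ D, (Commute x y ↔ x = y ∨ B (f x) (f y) = 0))
    (h3 : ∀ x ∈ D, ∀ y ∈ D, (f x = f y ∨ f x = - f y) → x = y)
    (h4 : ∀ v, B v v = 1 → ∃ x ∈ D, v = f x ∨ v = - f x) {a b : G} (ha : a ∈ D) (hb : b ∈ D) :
    f (a * b * a⁻¹) = rfl3 B (f a) (f b) ∨ f (a * b * a⁻¹) = - rfl3 B (f a) (f b) := by
  by_cases hab : Commute a b
  · have hc : a * b * a⁻¹ = b := by rw [hab.eq, mul_inv_cancel_right]
    rw [hc]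
    rcases (h2 a ha b hb).1 hab with rfl | h0
    · right
      rw [Cfsg.Agent.Fischer3.Orth3Basic.refl_self (h1 a ha), neg_neg]
    · left
      rw [Cfsg.Agent.Fischer3.Orth3Basic.refl_of_perp h0]
  · have hcD : a * b * a⁻¹ ∈ D := h.conj a b hb
    set c : G := a * b * a⁻¹ with hc
    have hne : B (f a) (f b) ≠ 0 := fun h0 => hab ((h2 a ha b hb).2 (Or.inr h0))
    have hca : ¬ Commute c a := by
      intro h0
      apply hab
      have h5 : a * b * a⁻¹ * a = a * (a * b * a⁻¹) := h0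
      rw [inv_mul_cancel_right] at h5
      -- `a b = a (a b a⁻¹)`
      have h6 : b = a * b * a⁻¹ := mul_left_cancel h5
      show a * b = b * a
      rw [eq_mul_inv_iff_mul_eq] at h6
      exact h6.symm
    have hspan : f c ∈ Submodule.span (ZMod 3) ({f a, f b} : Set (Fin n → ZMod 3)) := by
      by_contra hcon
      obtain ⟨s, hs, hsa, hsb, hsc⟩ := exists_sep F (by simpa using hn) (h1 a ha) (h1 b hb) hne hcon
      obtain ⟨z, hz, hzs⟩ := h4 s hs
      have hz0 : ∀ w, B s w = 0 → B (f z) w = 0 := by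
        intro w hw
        rcases hzs with hzs | hzs
        · rw [← hzs]; exact hw
        · have : f z = - s := by rw [hzs, neg_neg]
          rw [this, map_neg, LinearMap.neg_apply, hw, neg_zero]
      have hz1 : ∀ w, B s w ≠ 0 → B (f z) w ≠ 0 := by
        intro w hw h0
        apply hw
        rcases hzs with hzs | hzs
        · rw [hzs]; exact h0
        · rw [hzs, map_neg, LinearMap.neg_apply, h0, neg_zero]
      have hza : Commute z a := (h2 z hz a ha).2 (Or.inr (hz0 _ hsa))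
      have hzb : Commute z b := (h2 z hz b hb).2 (Or.inr (hz0 _ hsb))
      have hzc : Commute z c := (hza.mul_right hzb).mul_right hza.inv_right
      rcases (h2 z hz c hcD).1 hzc with h5 | h5
      · rw [h5] at hza
        exact hca hza
      · exact hz1 _ hsc h5
    rcases norm_one_of_mem_span F (h1 a ha) (h1 b hb) hne hspan (h1 c hcD) with h5 | h5 | h5
    · exfalso
      have h6 := h3 c hcD a ha h5
      exact hca (by rw [h6])
    · exfalso
      have h6 := h3 c hcD b hb h5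
      apply hab
      rw [hc, mul_inv_eq_iff_eq_mul] at h6
      exact h6
    · exact h5

/-- **`G` and the group generated by the reflections have the same central quotient.** -/
theorem exists_equiv_Gam {B : BilinForm (ZMod 3) (Fin n → ZMod 3)} (F : Form B) (h : FData D)
    (hn : 6 ≤ n) {f : G → Fin n → ZMod 3} (h1 : ∀ x ∈ D, B (f x) (f x) = 1)
    (h2 : ∀ x ∈ D, ∀ y ∈ D, (Commute x y ↔ x = y ∨ B (f x) (f y) = 0))
    (h3 : ∀ x ∈ D, ∀ y ∈ D, (f x = f y ∨ f x = - f y) → x = y)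
    (h4 : ∀ v, B v v = 1 → ∃ x ∈ D, v = f x ∨ v = - f x) :
    ∃ e : (G ⧸ Subgroup.center G) ≃* (↥(Gam B) ⧸ Subgroup.center ↥(Gam B)),
      ∀ (a : G) (ha : a ∈ D), e (QuotientGroup.mk a) =
        QuotientGroup.mk (⟨rr B (h1 a ha), Subgroup.subset_closure ⟨_, h1 a ha, rfl⟩⟩ : ↥(Gam B)) := by
  let φ₀ : ↥D → ↥(RG B) := fun a =>
    ⟨⟨rr B (h1 a a.2), Subgroup.subset_closure ⟨_, h1 a a.2, rfl⟩⟩, ⟨_, h1 a a.2, rfl⟩⟩
  have hbij : Function.Bijective φ₀ := by
    constructor
    · intro a b hab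
      have h5 : rr B (h1 a a.2) = rr B (h1 b b.2) :=
        congrArg (fun x : ↥(RG B) => ((x : ↥(Gam B)) : isometryGroup (ZMod 3) (⇑(QB B)))) hab
      exact Subtype.ext (h3 a a.2 b b.2 (rr_injective F _ _ h5))
    · rintro ⟨⟨g, hg⟩, v, hv, hvg⟩
      obtain ⟨a, ha, hav⟩ := h4 v hv
      refine ⟨⟨a, ha⟩, ?_⟩
      apply Subtype.ext
      apply Subtype.ext
      show rr B (h1 a ha) = g
      exact (rr_eq F hv (h1 a ha) hav).symm.trans hvg
  obtain ⟨e, he⟩ := Cfsg.Agent.Fischer920.RackIso.exists_equiv_quotient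
    (D₁ := D) (D₂ := RG B) h.conj conj_mem_RG h.gen closure_RG (Equiv.ofBijective φ₀ hbij) (by
      intro a b
      apply Subtype.ext
      have hvw : B (rfl3 B (f a) (f b)) (rfl3 B (f a) (f b)) = 1 := by
        rw [F.refl_norm (h1 a a.2)]
        exact h1 b b.2
      show rr B (h1 ((a : G) * b * (a : G)⁻¹) (h.conj a b b.2)) =
        rr B (h1 a a.2) * rr B (h1 b b.2) * (rr B (h1 a a.2))⁻¹
      rw [rr_conj F (h1 a a.2) (h1 b b.2) hvw]
      exact rr_eq F _ _ (map_conj F h hn h1 h2 h3 h4 a.2 b.2))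
  exact ⟨e, fun a ha => he ⟨a, ha⟩⟩

end Cfsg.Agent.Fischer919.OmegaR
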